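import Mathlib.RingTheory.Invariant.Basic
import Mathlib.GroupTheory.CosetCover
import Mathlib.RingTheory.Finiteness.Basic
import Mathlib.RingTheory.IntegralDomain
import Mathlib.RingTheory.Ideal.Over

/-!
Residue fields and the fixed ring of a subgroup containing the inertia.
-/

set_option autoImplicit false
set_option linter.style.haveILetI false
universe u

open scoped Pointwise

namespace Groth.L05.InertiaEtale

/-- Outside a subgroup containing the inertia an element moves the fixed ring modulo the prime. -/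
theorem exists_smul_sub_notMem {B : Type u} [CommRing B] {G : Type*} [Group G] [Finite G] [MulSemiringAction G B]
    (N : Subgroup G) (S : Subring B) (hS : ∀ b, b ∈ S ↔ ∀ n ∈ N, n • b = b) (P : Ideal B) [P.IsPrime]
    (hI : P.inertia G ≤ N) {g : G} (hg : g ∉ N) (heq : ∀ b ∈ S, g • b ∈ P ↔ b ∈ P) :
    ∃ b ∈ S, g • b - b ∉ P := by
  by_contra! hall
  haveI : SMulCommClass N S B := ⟨fun n b a => by
    show (n : G) • ((b : B) * a) = (b : B) * ((n : G) • a)
    rw [smul_mul', (hS _).1 b.2 _ n.2]⟩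
  haveI : Algebra.IsInvariant S B N := ⟨fun a ha => ⟨⟨a, (hS a).2 fun n hn => ha ⟨n, hn⟩⟩, rfl⟩⟩
  have hover : (g⁻¹ • P).under S = P.under S := by
    ext b
    show (b : B) ∈ g⁻¹ • P ↔ (b : B) ∈ P
    rw [Ideal.mem_pointwise_smul_iff_inv_smul_mem, inv_inv]
    exact heq _ b.2
  obtain ⟨n, hn⟩ := Algebra.IsInvariant.exists_smul_of_under_eq S B N (g⁻¹ • P) P hover
  have hn' : P = ((n : G) * g⁻¹) • P := by rw [mul_smul]; exact hn
  let g₁ := g * (n : G)⁻¹
  have hP : g₁ • P = P := by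
    rw [show g₁ = ((n : G) * g⁻¹)⁻¹ from by simp [g₁, mul_inv_rev], inv_smul_eq_iff]
    exact hn'
  have hg₁S : ∀ b ∈ S, g₁ • b = g • b := fun b hb => by
    rw [mul_smul, (hS b).1 hb _ (inv_mem n.2)]
  let p := P.under S
  have hmap : P.map (MulSemiringAction.toRingEquiv G B g₁ : B →+* B) = P := hP
  let e : (B ⧸ P) ≃+* (B ⧸ P) := Ideal.quotientEquiv P P (MulSemiringAction.toRingEquiv G B g₁) hmap.symm
  let e' : (B ⧸ P) ≃ₐ[S ⧸ p] (B ⧸ P) := AlgEquiv.ofRingEquiv (f := e) fun x => by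
    obtain ⟨b, rfl⟩ := Ideal.Quotient.mk_surjective x
    show Ideal.Quotient.mk P (g₁ • (b : B)) = Ideal.Quotient.mk P (b : B)
    rw [Ideal.Quotient.eq, hg₁S _ b.2]
    exact hall _ b.2
  obtain ⟨⟨k, hk⟩, hk'⟩ := Ideal.Quotient.stabilizerHom_surjective N p P e'
  have hmem : (k : G)⁻¹ * g₁ ∈ P.inertia G := by
    intro a
    show ((k : G)⁻¹ * g₁) • a - a ∈ P
    have h1 := AlgEquiv.congr_fun hk' (Ideal.Quotient.mk P a)
    rw [Ideal.Quotient.stabilizerHom_apply] at h1
    have h2 : (k : G) • a - g₁ • a ∈ P := Ideal.Quotient.eq.1 h1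
    have hkP : (k : G) • P = P := hk
    rw [← hkP, Ideal.mem_pointwise_smul_iff_inv_smul_mem, smul_sub, inv_smul_smul] at h2
    rw [mul_smul, ← neg_sub]
    exact P.neg_mem h2
  refine hg ?_
  have h3 := N.mul_mem k.2 (hI hmem)
  rw [mul_inv_cancel_left] at h3
  exact (N.mul_mem_cancel_right (inv_mem n.2)).1 h3

/-- A residue class moved by finitely many embeddings of the residue field. -/
theorem exists_residue {A B' B : Type u} [CommRing A] [CommRing B'] [CommRing B] [Algebra A B'] [Algebra A B]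
    [Module.Finite A B'] (p : Ideal A) [p.IsMaximal] (m' : Ideal B') [m'.IsMaximal] [m'.LiesOver p]
    (m : Ideal B) (ι : B' →ₐ[A] B) (hι : ∀ x ∈ m', ι x ∈ m) {σ : Type*} [Finite σ] (φ : σ → B' →ₐ[A] B)
    (hφ : ∀ i, ∀ x ∈ m', φ i x ∈ m) (hne : ∀ i, ∃ x, φ i x - ι x ∉ m) :
    ∃ α, α ∉ m' ∧ ∀ i, φ i α - ι α ∉ m := by
  classical
  letI := Ideal.Quotient.field m'
  have hcongr : ∀ i, ∀ x y, Ideal.Quotient.mk m' x = Ideal.Quotient.mk m' y → φ i x - ι x ∈ m → φ i y - ι y ∈ m := by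
    intro i x y hxy hx
    have h := Ideal.Quotient.eq.mp hxy
    have e : φ i y - ι y = (φ i x - ι x) - (φ i (x - y) - ι (x - y)) := by rw [map_sub, map_sub]; ring
    rw [e]
    exact m.sub_mem hx (m.sub_mem (hφ i _ h) (hι _ h))
  rcases finite_or_infinite (B' ⧸ m') with hfin | hinf
  · obtain ⟨g, hg⟩ := IsCyclic.exists_generator (α := (B' ⧸ m')ˣ)
    obtain ⟨α, hα⟩ := Ideal.Quotient.mk_surjective (g : B' ⧸ m')
    refine ⟨α, fun h => g.ne_zero (hα ▸ Ideal.Quotient.eq_zero_iff_mem.mpr h), fun i hi => ?_⟩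
    obtain ⟨x, hx⟩ := hne i
    by_cases hx0 : Ideal.Quotient.mk m' x = 0
    · exact hx (hcongr i 0 x (by rw [hx0, map_zero]) (by simp))
    obtain ⟨k, hk⟩ := (mem_powers_iff_mem_zpowers (x := g) (y := Units.mk0 _ hx0)).mpr (hg _)
    have hk' : Ideal.Quotient.mk m' (α ^ k) = Ideal.Quotient.mk m' x := by
      rw [map_pow, hα, ← Units.val_pow_eq_pow_val, show g ^ k = _ from hk, Units.val_mk0]
    refine hx (hcongr i _ x hk' ?_)
    rw [map_pow, map_pow]
    exact m.mem_of_dvd (sub_dvd_pow_sub_pow _ _ k) hi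
  · letI := Ideal.Quotient.field p
    haveI : Module.Finite (A ⧸ p) (B' ⧸ m') := Module.Finite.of_restrictScalars_finite A _ _
    haveI : Infinite (A ⧸ p) := by
      by_contra h
      rw [not_infinite_iff_finite] at h
      exact hinf.not_finite (Module.finite_of_finite (A ⧸ p))
    let W : σ → Subspace (A ⧸ p) (B' ⧸ m') := fun i =>
      { carrier := {z | ∃ x, Ideal.Quotient.mk m' x = z ∧ φ i x - ι x ∈ m}
        add_mem' := by
          rintro _ _ ⟨x, rfl, hx⟩ ⟨y, rfl, hy⟩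
          exact ⟨x + y, map_add _ _ _, by rw [map_add, map_add, add_sub_add_comm]; exact m.add_mem hx hy⟩
        zero_mem' := ⟨0, map_zero _, by simp⟩
        smul_mem' := by
          rintro r _ ⟨x, rfl, hx⟩
          obtain ⟨r, rfl⟩ := Ideal.Quotient.mk_surjective r
          refine ⟨r • x, ?_, ?_⟩
          · rw [Algebra.smul_def, Algebra.smul_def, map_mul]; rfl
          · rw [map_smul, map_smul, ← smul_sub, Algebra.smul_def]; exact m.mul_mem_left _ hx }
    let W' : Option σ → Subspace (A ⧸ p) (B' ⧸ m') := fun o => o.elim ⊥ W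
    have hW : ¬ ∃ o, W' o = ⊤ := by
      rintro ⟨_ | i, ho⟩
      · have h1 : (1 : B' ⧸ m') ∈ W' none := ho ▸ Submodule.mem_top
        exact one_ne_zero ((Submodule.mem_bot _).mp h1)
      · obtain ⟨x, hx⟩ := hne i
        obtain ⟨y, hy, hy'⟩ : Ideal.Quotient.mk m' x ∈ W' (some i) := ho ▸ Submodule.mem_top
        exact hx (hcongr i y x hy hy')
    have hu : ⋃ o, (W' o : Set (B' ⧸ m')) ≠ Set.univ := fun h => hW (Subspace.exists_eq_top_of_iUnion_eq_univ h)
    obtain ⟨z, hz⟩ := (Set.ne_univ_iff_exists_notMem _).mp hu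
    obtain ⟨α, rfl⟩ := Ideal.Quotient.mk_surjective z
    rw [Set.mem_iUnion, not_exists] at hz
    exact ⟨α, fun h => hz none ((Submodule.mem_bot _).mpr (Ideal.Quotient.eq_zero_iff_mem.mpr h)),
      fun i hi => hz (some i) ⟨α, rfl, hi⟩⟩

end Groth.L05.InertiaEtale
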