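import Groth.Agent.L05.InertiaEtale.Standard
import Groth.Agent.L05.InertiaEtale.Residue
import Mathlib.RingTheory.DiscreteValuationRing.Basic
import Mathlib.RingTheory.QuasiFinite.Basic
import Mathlib.FieldTheory.Galois.Basic
import Mathlib.RingTheory.Ideal.GoingUp

/-!
The integral closure in the fixed field of an inertia group is étale at the prime below.
-/

set_option autoImplicit false
set_option linter.style.haveILetI false
set_option maxSynthPendingDepth 3
universe u

open Polynomial
open scoped Pointwise

namespace Groth.L05.InertiaEtale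

/-- A separating element has derivative of the minimal polynomial outside the prime. -/
theorem aeval_derivative_notMem {A K L B : Type u} [CommRing A] [IsDomain A] [IsIntegrallyClosed A]
    [Field K] [Field L] [Algebra A K] [IsFractionRing A K] [Algebra K L] [Algebra A L] [IsScalarTower A K L]
    [FiniteDimensional K L] [IsGalois K L] [CommRing B] [Algebra A B] [Algebra B L] [IsScalarTower A B L]
    [IsIntegralClosure B A L] [MulSemiringAction (L ≃ₐ[K] L) B]
    (hact : ∀ (σ : L ≃ₐ[K] L) (b : B), algebraMap B L (σ • b) = σ (algebraMap B L b))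
    (m : Ideal B) [m.IsPrime] (b : B) (hsep : ∀ σ : L ≃ₐ[K] L, σ (algebraMap B L b) ≠ algebraMap B L b → σ • b - b ∉ m) :
    aeval b (derivative (minpoly A b)) ∉ m := by
  classical
  have hinj := IsIntegralClosure.algebraMap_injective B A L
  have hint : IsIntegral A (algebraMap B L b) :=
    (IsIntegralClosure.isIntegral A L b).map (IsScalarTower.toAlgHom A B L)
  let x := algebraMap B L b
  let f := minpoly K x
  have hx : IsIntegral K x := Algebra.IsIntegral.isIntegral x
  have hsplit : (f.map (algebraMap K L)).Splits := Normal.splits inferInstance x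
  have hroot : x ∈ (f.map (algebraMap K L)).roots := by
    rw [mem_roots ((Polynomial.map_ne_zero (minpoly.ne_zero hx))), IsRoot.def, eval_map_algebraMap, minpoly.aeval]
  let T : Submonoid L := m.primeCompl.map (algebraMap B L : B →* L)
  have hprod : (((f.map (algebraMap K L)).roots.erase x).map (x - ·)).prod ∈ T := by
    refine Submonoid.multiset_prod_mem _ _ fun z hz => ?_
    obtain ⟨r, hr, rfl⟩ := Multiset.mem_map.mp hz
    have hne : r ≠ x := fun h => by
      subst h
      exact (Multiset.Nodup.notMem_erase (nodup_roots ((Polynomial.separable_map _).mpr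
        (Algebra.IsSeparable.isSeparable K x)))) hr
    have hr' := Multiset.mem_of_mem_erase hr
    rw [mem_roots (Polynomial.map_ne_zero (minpoly.ne_zero hx)), IsRoot.def, eval_map_algebraMap] at hr'
    obtain ⟨σ, hσ⟩ := minpoly.exists_algEquiv_of_root' hx.isAlgebraic hr'
    have hσ' : σ x = r := hσ
    refine Submonoid.mem_map.mpr ⟨b - σ • b, fun h => ?_, ?_⟩
    · exact hsep σ (hσ'.trans_ne hne) (by rw [← neg_sub]; exact m.neg_mem h)
    · show algebraMap B L (b - σ • b) = x - r
      rw [map_sub, hact, hσ']
  obtain ⟨t, ht, htd⟩ := Submonoid.mem_map.mp hprod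
  intro hmem
  refine ht ?_
  suffices h : t = aeval b (derivative (minpoly A b)) by
    rw [h]; exact hmem
  refine hinj ?_
  refine htd.trans ?_
  rw [← hsplit.eval_root_derivative ((minpoly.monic hx).map _) hroot, derivative_map, eval_map_algebraMap, ← aeval_algebraMap_apply]
  show aeval x (derivative (minpoly K x)) = _
  rw [minpoly.isIntegrallyClosed_eq_field_fractions' K hint, derivative_map, aeval_map_algebraMap,
    minpoly.algebraMap_eq hinj]

section Main

variable {A K L B : Type u} [CommRing A] [IsDomain A] [IsDiscreteValuationRing A] [Field K] [Field L] [Algebra A K]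
  [IsFractionRing A K] [Algebra K L] [Algebra A L] [IsScalarTower A K L] [FiniteDimensional K L] [IsGalois K L]
  [CommRing B] [Algebra A B] [Algebra B L] [IsScalarTower A B L] [IsIntegralClosure B A L]
  [MulSemiringAction (L ≃ₐ[K] L) B]
  (hact : ∀ (σ : L ≃ₐ[K] L) (b : B), algebraMap B L (σ • b) = σ (algebraMap B L b))
  (m : Ideal B) [m.IsMaximal]
  (B' : Type u) [CommRing B'] [Algebra A B'] [Algebra B' B] [IsScalarTower A B' B] [Algebra B' L]
  [IsScalarTower B' B L]
  [Algebra B' (IntermediateField.fixedField (m.inertia (L ≃ₐ[K] L)))]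
  [IsScalarTower B' (IntermediateField.fixedField (m.inertia (L ≃ₐ[K] L))) L]
  [IsIntegralClosure B' A (IntermediateField.fixedField (m.inertia (L ≃ₐ[K] L)))]

local notation "F" => IntermediateField.fixedField (m.inertia (L ≃ₐ[K] L))

theorem coe_algebraMap (x : B') : (algebraMap B' F x : L) = algebraMap B L (algebraMap B' B x) := by
  rw [← IsScalarTower.algebraMap_apply B' B L, IsScalarTower.algebraMap_apply B' F L]
  rfl

include hact A in
theorem invariant_iff (b : B) :
    (∀ σ ∈ m.inertia (L ≃ₐ[K] L), σ • b = b) ↔ b ∈ Set.range (algebraMap B' B) := by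
  have hinj := IsIntegralClosure.algebraMap_injective B A L
  constructor
  · intro h
    have hmem : algebraMap B L b ∈ F := by
      rw [IntermediateField.mem_fixedField_iff]
      intro σ hσ
      rw [← hact, h σ hσ]
    haveI : IsScalarTower A F L := IsScalarTower.of_algebraMap_eq fun _ => rfl
    have hint : IsIntegral A (⟨_, hmem⟩ : F) :=
      (isIntegral_algHom_iff (IsScalarTower.toAlgHom A F L) (algebraMap F L).injective).mp
        ((IsIntegralClosure.isIntegral A L b).map (IsScalarTower.toAlgHom A B L))
    refine ⟨IsIntegralClosure.mk' B' (⟨_, hmem⟩ : F) hint, hinj ?_⟩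
    rw [← coe_algebraMap (K := K) (L := L) m B', IsIntegralClosure.algebraMap_mk' B' (⟨_, hmem⟩ : F) hint]
  · rintro ⟨x, rfl⟩ σ hσ
    refine hinj ?_
    rw [hact, ← coe_algebraMap (K := K) (L := L) m B']
    exact (IntermediateField.mem_fixedField_iff _ _).mp (algebraMap B' F x).2 σ hσ

include hact in
theorem etale_atPrime : Algebra.Etale A (Localization.AtPrime (m.comap (algebraMap B' B))) := by
  classical
  have hinj := IsIntegralClosure.algebraMap_injective B A L
  haveI : IsScalarTower A F L := IsScalarTower.of_algebraMap_eq fun _ => rfl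
  haveI : IsScalarTower A B' F := IsScalarTower.of_algebraMap_eq fun r => Subtype.ext (by
    rw [coe_algebraMap m B', ← IsScalarTower.algebraMap_apply A B' B, ← IsScalarTower.algebraMap_apply A B L]
    exact IsScalarTower.algebraMap_apply A F L r)
  have hinjF := IsIntegralClosure.algebraMap_injective B' A F
  haveI : IsDomain B' := hinjF.isDomain
  have hBA : Function.Injective (algebraMap A B') := fun a a' h => IsFractionRing.injective A K
    ((algebraMap K L).injective (by
      rw [← IsScalarTower.algebraMap_apply A K L, ← IsScalarTower.algebraMap_apply A K L,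
        IsScalarTower.algebraMap_apply A B L, IsScalarTower.algebraMap_apply A B' B, h,
        ← IsScalarTower.algebraMap_apply A B' B, ← IsScalarTower.algebraMap_apply A B L]))
  haveI : Module.IsTorsionFree A B' := Module.isTorsionFree_iff_algebraMap_injective.mpr hBA
  haveI : Module.Finite A B' := IsIntegralClosure.finite A K F B'
  haveI : Algebra.IsIntegral A B' := Algebra.IsIntegral.of_finite A B'
  haveI : Algebra.IsIntegral A B := IsIntegralClosure.isIntegral_algebra A L
  haveI : Algebra.IsIntegral B' B := Algebra.IsIntegral.tower_top A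
  let G := L ≃ₐ[K] L
  let ι : B' →ₐ[A] B := IsScalarTower.toAlgHom A B' B
  have hGA : ∀ (σ : G) (r : A), σ • algebraMap A B r = algebraMap A B r := fun σ r => hinj (by
    rw [hact, ← IsScalarTower.algebraMap_apply, IsScalarTower.algebraMap_apply A K L, σ.commutes])
  let φ : G → B' →ₐ[A] B := fun σ =>
    { toRingHom := (MulSemiringAction.toRingHom G B σ).comp (algebraMap B' B)
      commutes' := fun r => by
        show σ • algebraMap B' B (algebraMap A B' r) = _
        rw [← IsScalarTower.algebraMap_apply, hGA] }
  let m' := m.comap (algebraMap B' B)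
  haveI hm' : m'.IsMaximal := Ideal.isMaximal_comap_of_isIntegral_of_isMaximal m
  have hmσ : ∀ σ : G, (m.comap (φ σ).toRingHom).IsMaximal := fun σ => by
    haveI : (m.comap (MulSemiringAction.toRingHom G B σ)).IsMaximal :=
      Ideal.comap_isMaximal_of_surjective _ (MulAction.surjective σ)
    show (m.comap ((MulSemiringAction.toRingHom G B σ).comp (algebraMap B' B))).IsMaximal
    rw [← Ideal.comap_comap]
    exact Ideal.isMaximal_comap_of_isIntegral_of_isMaximal _
  let p := IsLocalRing.maximalIdeal A
  have hlies : ∀ P : Ideal B', P.IsMaximal → P.LiesOver p := fun P hP =>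
    haveI := hP
    ⟨(IsLocalRing.eq_maximalIdeal (Ideal.isMaximal_comap_of_isIntegral_of_isMaximal (R := A) P)).symm⟩
  have hfin : {P : Ideal B' | P.IsMaximal}.Finite :=
    (Algebra.QuasiFinite.finite_primesOver p).subset fun P (hP : P.IsMaximal) => ⟨hP.isPrime, hlies P hP⟩
  obtain ⟨e, he1, he⟩ : ∃ e : B', e - 1 ∈ m' ∧ ∀ P : Ideal B', P.IsMaximal → P ≠ m' → e ∈ P := by
    have h : ¬ (hfin.toFinset.erase m').inf id ≤ m' := by
      rw [hm'.isPrime.inf_le']
      rintro ⟨P, hP, hPm⟩
      rw [Finset.mem_erase, Set.Finite.mem_toFinset] at hP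
      exact hP.1 (Ideal.IsMaximal.eq_of_le hP.2 hm'.ne_top hPm)
    obtain ⟨e₀, he₀, he₀m⟩ := SetLike.not_le_iff_exists.mp h
    obtain ⟨y, i, hi, hyi⟩ := hm'.exists_inv he₀m
    refine ⟨y * e₀, by rw [show y * e₀ - 1 = -i by rw [← hyi]; ring]; exact m'.neg_mem hi, fun P hP hne => ?_⟩
    exact P.mul_mem_left _ ((Finset.inf_le (f := id) (Finset.mem_erase.mpr ⟨hne, hfin.mem_toFinset.mpr hP⟩)) he₀)
  have he' : e ∉ m' := fun h => hm'.ne_top ((Ideal.eq_top_iff_one _).mpr (sub_sub_cancel e 1 ▸ m'.sub_mem h he1))
  haveI : m'.LiesOver p := hlies m' hm'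
  let σs := {σ : G // σ ∉ m.inertia G ∧ m.comap (φ σ).toRingHom = m'}
  obtain ⟨α, hα, hαs⟩ := exists_residue p m' m ι (fun x hx => hx) (fun σ : σs => φ σ.1)
    (fun σ x hx => (σ.2.2.ge hx :)) (fun σ => by
      obtain ⟨b, hb, hb'⟩ := exists_smul_sub_notMem (m.inertia G) (algebraMap B' B).range
        (fun b => RingHom.mem_range.trans (invariant_iff (A := A) hact m B' b).symm) m le_rfl σ.2.1 (by
          rintro _ ⟨x, rfl⟩
          exact Ideal.ext_iff.mp σ.2.2 x)
      obtain ⟨x, rfl⟩ := hb
      exact ⟨x, hb'⟩)
  let a := e * α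
  have hsep : ∀ σ : G, σ ∉ m.inertia G → σ • algebraMap B' B a - algebraMap B' B a ∉ m := by
    intro σ hσ h
    by_cases heq : m.comap (φ σ).toRingHom = m'
    · refine hαs ⟨σ, hσ, heq⟩ ?_
      have h1 : (φ σ) (e - 1) ∈ m := (heq.ge he1 :)
      have h2 : ι (e - 1) ∈ m := he1
      have e1 : φ σ α - ι α = (φ σ (e * α) - ι (e * α)) - φ σ (e - 1) * φ σ α + ι (e - 1) * ι α := by
        simp only [map_mul, map_sub, map_one]; ring
      rw [e1]
      exact m.add_mem (m.sub_mem h (m.mul_mem_right _ h1)) (m.mul_mem_right _ h2)
    · have h1 : φ σ a ∈ m := Ideal.mul_mem_right _ (m.comap (φ σ).toRingHom) (he _ (hmσ σ) heq)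
      have h2 : a ∈ m' := by
        show algebraMap B' B a ∈ m
        have := m.sub_mem h1 h
        rwa [show φ σ a = σ • algebraMap B' B a from rfl, sub_sub_cancel] at this
      exact (hm'.isPrime.mem_or_mem h2).elim he' hα
  have hint : IsIntegral A a := Algebra.IsIntegral.isIntegral a
  have hBB' : Function.Injective (algebraMap B' B) := fun x y h => hinjF (Subtype.ext (by
    rw [coe_algebraMap m B', coe_algebraMap m B', h]))
  let c := aeval a (derivative (minpoly A a))
  have hc : c ∉ m' := by
    show algebraMap B' B c ∉ m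
    rw [← aeval_algebraMap_apply, ← minpoly.algebraMap_eq hBB' a]
    refine aeval_derivative_notMem (A := A) (K := K) (L := L) hact m _ fun σ hσ => hsep σ fun hI => hσ ?_
    rw [← coe_algebraMap (K := K) (L := L) m B']
    exact (IntermediateField.mem_fixedField_iff _ _).mp (algebraMap B' F a).2 σ hI
  have hgen : Algebra.adjoin K {algebraMap B' F a} = ⊤ := by
    have hx : IsIntegral K (algebraMap B' F a) := Algebra.IsIntegral.isIntegral _
    rw [← IntermediateField.adjoin_simple_toSubalgebra_of_isAlgebraic hx.isAlgebraic, ← IntermediateField.top_toSubalgebra]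
    congr 1
    refine IntermediateField.map_injective (IntermediateField.val F) ?_
    rw [IntermediateField.adjoin_map, Set.image_singleton, ← AlgHom.fieldRange_eq_map, IntermediateField.fieldRange_val]
    refine le_antisymm (IntermediateField.adjoin_simple_le_iff.mpr (algebraMap B' F a).2) ?_
    rw [← IsGalois.fixedField_fixingSubgroup (IntermediateField.adjoin K {(IntermediateField.val F) (algebraMap B' F a)})]
    refine IntermediateField.fixedField_le fun σ hσ => ?_
    by_contra hI
    refine hsep σ hI ?_
    have h : σ • algebraMap B' B a = algebraMap B' B a := hinj (by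
      rw [hact]
      have := (IntermediateField.mem_fixingSubgroup_iff _ _).mp hσ _ (IntermediateField.mem_adjoin_simple_self K _)
      rwa [IntermediateField.coe_val, coe_algebraMap m B'] at this)
    rw [h, sub_self]
    exact m.zero_mem
  haveI : Algebra.IsStandardEtale A (Localization.Away c) :=
    isStandardEtale_away a hint (aeval_derivative_mul_mem_adjoin (K := K) (L := F) a hgen) (Localization.Away c)
  haveI : Algebra.IsStandardEtale A (Localization.Away (algebraMap B' (Localization.Away c) e)) :=
    Algebra.IsStandardEtale.of_isLocalizationAway (algebraMap B' (Localization.Away c) e)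
  haveI := IsLocalization.Away.mul (Localization.Away c) (Localization.Away (algebraMap B' (Localization.Away c) e)) c e
  haveI : IsLocalization m'.primeCompl (Localization.Away (algebraMap B' (Localization.Away c) e)) := by
    refine IsLocalization.of_le_of_exists_dvd (Submonoid.powers (c * e)) _ ?_ fun y hy => ?_
    · rw [Submonoid.powers_le]
      exact hm'.isPrime.mul_notMem hc he'
    · have : c * e ∈ (Ideal.span {y}).radical := by
        rw [Ideal.radical_eq_sInf, Ideal.mem_sInf]
        rintro P ⟨hyP, hP⟩
        haveI := hP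
        have hP0 : P ≠ ⊥ := fun h => hy (by
          rw [h, le_bot_iff, Ideal.span_singleton_eq_bot] at hyP
          rw [hyP]; exact m'.zero_mem)
        haveI : (P.comap (algebraMap A B')).IsMaximal := Ideal.IsPrime.isMaximal inferInstance
          fun h => hP0 (Ideal.eq_bot_of_comap_eq_bot h)
        have hPm : P.IsMaximal := Ideal.isMaximal_of_isIntegral_of_isMaximal_comap (R := A) P inferInstance
        refine P.mul_mem_left _ (he P hPm fun h => hy ?_)
        exact h ▸ hyP (Ideal.mem_span_singleton_self y)
      obtain ⟨n, hn⟩ := this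
      exact ⟨_, ⟨n, rfl⟩, Ideal.mem_span_singleton.mp hn⟩
  exact Algebra.Etale.of_equiv ((IsLocalization.algEquiv m'.primeCompl
    (Localization.Away (algebraMap B' (Localization.Away c) e)) (Localization.AtPrime m')).restrictScalars A)

end Main

end Groth.L05.InertiaEtale
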