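import Mathlib.RingTheory.Etale.StandardEtale
import Mathlib.RingTheory.DedekindDomain.Different
import Mathlib.FieldTheory.Minpoly.IsIntegrallyClosed

/-!
An integral extension of a normal domain is standard etale away from the derivative of the minimal polynomial of a
generator.
-/

set_option autoImplicit false
set_option linter.style.haveILetI false
set_option maxSynthPendingDepth 3
universe u

open Polynomial Pointwise

namespace Groth.L05.InertiaEtale

/-- Euler: the derivative of the minimal polynomial of a generator lies in the conductor. -/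
theorem aeval_derivative_mul_mem_adjoin {A K L B : Type u} [CommRing A] [IsDomain A] [IsIntegrallyClosed A]
    [Field K] [Field L] [Algebra A K] [IsFractionRing A K] [Algebra K L] [Algebra A L] [IsScalarTower A K L]
    [FiniteDimensional K L] [Algebra.IsSeparable K L] [CommRing B] [Algebra A B] [Algebra B L] [IsScalarTower A B L]
    [IsIntegralClosure B A L] (a : B) (ha : Algebra.adjoin K {algebraMap B L a} = ⊤) (b : B) :
    aeval a (derivative (minpoly A a)) * b ∈ Algebra.adjoin A {a} := by
  have hinj := IsIntegralClosure.algebraMap_injective B A L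
  have hint : ∀ y : B, IsIntegral A (algebraMap B L y) := fun y =>
    (IsIntegralClosure.isIntegral A L y).map (IsScalarTower.toAlgHom A B L)
  have hd := traceForm_dualSubmodule_adjoin A K ha (hint a)
  have hb : algebraMap B L b ∈
      (Algebra.traceForm K L).dualSubmodule (Subalgebra.toSubmodule (Algebra.adjoin A {algebraMap B L a})) := by
    intro z hz
    have hz' : IsIntegral A z :=
      adjoin_le_integralClosure (hint a) hz
    obtain ⟨r, hr⟩ := IsIntegrallyClosed.isIntegral_iff.mp (Algebra.isIntegral_trace (L := K) ((hint b).mul hz'))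
    exact Submodule.mem_one.mpr ⟨r, hr⟩
  rw [hd] at hb
  have hne : aeval (algebraMap B L a) (derivative (minpoly K (algebraMap B L a))) ≠ 0 :=
    (Algebra.IsSeparable.isSeparable _ _).aeval_derivative_ne_zero (minpoly.aeval _ _)
  obtain ⟨w, hw, hwb⟩ := hb
  have hwb' : (aeval (algebraMap B L a) (derivative (minpoly K (algebraMap B L a))))⁻¹ * w = algebraMap B L b := hwb
  have hw' : w ∈ Algebra.adjoin A {algebraMap B L a} := hw
  rw [← IsScalarTower.toAlgHom_apply A B L, Algebra.adjoin_singleton_eq_range_aeval] at hw'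
  obtain ⟨p, rfl⟩ := hw'
  rw [Algebra.adjoin_singleton_eq_range_aeval]
  refine ⟨p, hinj ?_⟩
  rw [inv_mul_eq_iff_eq_mul₀ hne] at hwb'
  show algebraMap B L (aeval a p) = _
  rw [map_mul, ← aeval_algebraMap_apply, ← aeval_algebraMap_apply]
  refine hwb'.trans ?_
  congr 1
  rw [minpoly.isIntegrallyClosed_eq_field_fractions' K (hint a), derivative_map, aeval_map_algebraMap,
    minpoly.algebraMap_eq hinj]

/-- The standard etale algebra of a generator. -/
theorem isStandardEtale_away {A B : Type u} [CommRing A] [IsDomain A] [IsIntegrallyClosed A]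
    [CommRing B] [IsDomain B] [Algebra A B] [Module.IsTorsionFree A B] (a : B) (ha : IsIntegral A a)
    (hc : ∀ b : B, aeval a (derivative (minpoly A a)) * b ∈ Algebra.adjoin A {a})
    (B' : Type u) [CommRing B'] [Algebra B B'] [Algebra A B'] [IsScalarTower A B B']
    [IsLocalization.Away (aeval a (derivative (minpoly A a))) B'] :
    Algebra.IsStandardEtale A B' := by
  let P : StandardEtalePair A :=
    ⟨minpoly A a, minpoly.monic ha, derivative (minpoly A a), 1, 0, 1, by ring⟩
  let ψ : AdjoinRoot P.f →ₐ[A] B := (Algebra.adjoin A {a}).val.comp (minpoly.equivAdjoin ha).toAlgHom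
  have hψ : ∀ p : A[X], ψ (AdjoinRoot.mk P.f p) = aeval a p := fun p => by
    have h : ψ.comp (AdjoinRoot.mkₐ P.f) = aeval a := Polynomial.algHom_ext (by simp [ψ, P])
    exact congr($h p)
  have hψinj : Function.Injective ψ := Subtype.val_injective.comp (minpoly.equivAdjoin ha).injective
  have hψsurj : ∀ b : B, ∃ z, ψ z = aeval a P.g * b := fun b =>
    ⟨(minpoly.equivAdjoin ha).symm ⟨_, hc b⟩,
      congrArg Subtype.val ((minpoly.equivAdjoin ha).apply_symm_apply ⟨_, hc b⟩)⟩
  letI : Algebra (AdjoinRoot P.f) B' := ((algebraMap B B').comp ψ.toRingHom).toAlgebra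
  haveI : IsScalarTower A (AdjoinRoot P.f) B' := IsScalarTower.of_algebraMap_eq fun r => by
    show _ = algebraMap B B' (ψ (algebraMap A (AdjoinRoot P.f) r))
    rw [ψ.commutes, ← IsScalarTower.algebraMap_apply]
  let c := aeval a (derivative (minpoly A a))
  have hgc : algebraMap (AdjoinRoot P.f) B' (AdjoinRoot.mk P.f P.g) = algebraMap B B' c :=
    congrArg (algebraMap B B') (hψ _)
  haveI : IsLocalization (Submonoid.powers (AdjoinRoot.mk P.f P.g)) B' := by
    refine (isLocalization_iff _ _).mpr ⟨fun y => ?_, fun z => ?_, fun {z₁ z₂} h => ?_⟩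
    · obtain ⟨y, k, rfl⟩ := y
      rw [map_pow, hgc]
      exact (IsLocalization.Away.algebraMap_isUnit c).pow k
    · obtain ⟨⟨b, s⟩, hs⟩ := IsLocalization.surj (Submonoid.powers c) z
      obtain ⟨k, hk⟩ := s.2
      obtain ⟨w, hw⟩ := hψsurj b
      refine ⟨(w, ⟨_, ⟨k + 1, rfl⟩⟩), ?_⟩
      show z * algebraMap _ B' (AdjoinRoot.mk P.f P.g ^ (k + 1)) = algebraMap B B' (ψ w)
      rw [map_pow, hgc, pow_succ, ← map_pow, hw, map_mul, ← mul_assoc, mul_comm _ (algebraMap B B' b),
        show c ^ k = s.1 from hk, hs]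
    · obtain ⟨⟨s, k, hk⟩, hs⟩ := IsLocalization.exists_of_eq (M := Submonoid.powers c) h
      refine ⟨⟨_, ⟨k, rfl⟩⟩, hψinj ?_⟩
      show ψ (AdjoinRoot.mk P.f P.g ^ k * z₁) = ψ (AdjoinRoot.mk P.f P.g ^ k * z₂)
      rw [map_mul, map_mul, map_pow, hψ]
      have hk' : c ^ k = s := hk
      exact (congrArg (· * ψ z₁) hk').trans (hs.trans (congrArg (· * ψ z₂) hk').symm)
  exact Algebra.IsStandardEtale.of_equiv (P.equivAwayAdjoinRoot.trans
    ((IsLocalization.algEquiv (Submonoid.powers (AdjoinRoot.mk P.f P.g)) _ B').restrictScalars A))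

end Groth.L05.InertiaEtale
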